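import Groth.Prelude.Def_PLie
import Mathlib.Algebra.Lie.TraceForm
import Mathlib.Algebra.Lie.Engel
import Mathlib.Algebra.Lie.Normalizer
import Mathlib.LinearAlgebra.BilinearForm.Orthogonal

/-!
A subalgebra of nilpotent operators is orthogonal to its normaliser.
-/

set_option autoImplicit false

universe u v

namespace Groth.Agent.Lib.PLieOrth.Basic

open LinearMap

variable {k : Type u} [Field k] {L : Type v} [LieRing L] [LieAlgebra k L] [Module.Finite k L]

theorem isNilpotent_ad_of_pNilpotent {p : ℕ} [CharP k p] (φ : PLie.PMap k p L) {x : L}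
    (h : PLie.IsPNilpotent φ x) : IsNilpotent (LieAlgebra.ad k L x) := by
  obtain ⟨n, hn⟩ := h
  refine ⟨p ^ n, ?_⟩
  have key : ∀ j, LieAlgebra.ad k L (φ.toFun^[j] x) = LieAlgebra.ad k L x ^ p ^ j := by
    intro j
    induction j with
    | zero => simp
    | succ j ih => rw [Function.iterate_succ_apply', φ.ad_map, ih, ← pow_mul, pow_succ]
  rw [← key n, hn, map_zero]

theorem killing_eq_zero_of_mem_normalizer (U : LieSubalgebra k L)
    (hU : ∀ x ∈ U, IsNilpotent (LieAlgebra.ad k L x)) {h u : L} (hh : h ∈ U.normalizer) (hu : u ∈ U) :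
    killingForm k L h u = 0 := by
  haveI : LieModule.IsNilpotent U L :=
    (LieModule.isNilpotent_iff_forall (R := k)).mpr fun x => by
      have e : LieModule.toEnd k U L x = LieAlgebra.ad k L (x : L) := LinearMap.ext fun m => rfl
      rw [e]
      exact hU x x.2
  obtain ⟨N, hN⟩ := (LieModule.isNilpotent_iff_exists_ucs_eq_top k (L := U) (M := L)).mp inferInstance
  have hst : ∀ j, ∀ m ∈ (⊥ : LieSubmodule k U L).ucs j, ⁅h, m⁆ ∈ (⊥ : LieSubmodule k U L).ucs j := by
    intro j
    induction j with
    | zero =>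
      intro m hm
      rw [LieSubmodule.ucs_zero, LieSubmodule.mem_bot] at hm ⊢
      rw [hm, lie_zero]
    | succ j ih =>
      intro m hm
      rw [LieSubmodule.ucs_succ, LieSubmodule.mem_normalizer] at hm ⊢
      intro x
      show ⁅(x : L), ⁅h, m⁆⁆ ∈ _
      rw [leibniz_lie]
      exact add_mem (hm ⟨_, (LieSubalgebra.mem_normalizer_iff' U h).mp hh x x.2⟩) (ih _ (hm x))
  let T : Module.End k L := LieAlgebra.ad k L h ∘ₗ LieAlgebra.ad k L u
  have hT : ∀ j, ∀ m ∈ (⊥ : LieSubmodule k U L).ucs j, (T ^ j) m = 0 := by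
    intro j
    induction j with
    | zero =>
      intro m hm
      rw [LieSubmodule.ucs_zero, LieSubmodule.mem_bot] at hm
      simp [hm]
    | succ j ih =>
      intro m hm
      rw [LieSubmodule.ucs_succ, LieSubmodule.mem_normalizer] at hm
      rw [pow_succ, Module.End.mul_apply]
      exact ih _ (hst j _ (hm ⟨u, hu⟩))
  have hnil : IsNilpotent T := ⟨N, LinearMap.ext fun m => by
    simpa using hT N m (hN ▸ LieSubmodule.mem_top m)⟩
  rw [killingForm_apply_apply]
  exact (LinearMap.isNilpotent_trace_of_isNilpotent hnil).eq_zero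

theorem eq_killing_orthogonal (U : LieSubalgebra k L) (hκ : (killingForm k L).Nondegenerate)
    (hU : ∀ x ∈ U, IsNilpotent (LieAlgebra.ad k L x))
    (hperp : ∀ a b : L, (∀ y ∈ U, killingForm k L a y = 0) → (∀ y ∈ U, killingForm k L b y = 0) →
      ∀ y ∈ U, killingForm k L ⁅a, b⁆ y = 0) (x : L) :
    x ∈ U ↔ ∀ h ∈ U.normalizer, killingForm k L h x = 0 := by
  have hsymm : ∀ a b : L, killingForm k L a b = killingForm k L b a := fun a b =>
    LieModule.traceForm_comm k L L a b
  have hrefl : (killingForm k L).IsRefl := fun a b hab => by rw [hsymm]; exact hab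
  -- the double orthogonal of `U`
  have hback : ∀ z : L, (∀ a, (∀ y ∈ U, killingForm k L a y = 0) → killingForm k L a z = 0) → z ∈ U := by
    intro z hz
    have h1 : z ∈ LinearMap.BilinForm.orthogonal (killingForm k L)
        (LinearMap.BilinForm.orthogonal (killingForm k L) U.toSubmodule) := by
      intro a ha
      exact hz a fun y hy => (hsymm a y).trans (ha y hy)
    rwa [LinearMap.BilinForm.orthogonal_orthogonal hκ hrefl] at h1
  refine ⟨fun hx h hh => killing_eq_zero_of_mem_normalizer U hU hh hx, fun hx => ?_⟩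
  refine hback x fun a ha => hx a ((LieSubalgebra.mem_normalizer_iff U a).mpr fun y hy => ?_)
  refine hback _ fun b hb => ?_
  rw [← LieModule.traceForm_apply_lie_apply]
  exact hperp b a hb ha y hy

end Groth.Agent.Lib.PLieOrth.Basic
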